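import Cfsg.Agent.H848.Rl.Red410Of
import Cfsg.Agent.H788.Rl.Low

/-!
# S3691, row `PSL_n(q)`: PSL-16d, `(q, n) = (4, 10)` (helper848)
-/

set_option autoImplicit false

namespace Cfsg.Agent.H848.Rl

open Cfsg Cfsg.Geo Matrix Module Cfsg.Agent.H454.Reg
open Cfsg.Agent.H851.Rl (pg Pt)
open scoped MatrixGroups

universe u

variable {G : Type u} [Group G] [Finite G] {T : Subgroup G} {F : Type} [Field F] [Fintype F]

theorem res9 (hq : Fintype.card F = 4) : Res9 F := fun H hH hS h19 => by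
  have hF2 : Fintype.card F = 2 ^ 2 := by rw [hq]; norm_num
  exact (H788.Rl.res_low_ppd (by norm_num) (by norm_num) hH hS (k := 9) (by norm_num) le_rfl (u := 19) (by norm_num)
    Nat.prime_two hF2 ord_19 h19).trans (by norm_num)

/-- **PSL-16d** -/
theorem red_4_10 (hP : H659.CovCore.S5948Stmt.{0}) {X Y : Subgroup G} (h : Fac T X Y)
    (e : T ≃* Matrix.ProjectiveSpecialLinearGroup (Fin 10) F) (hq : Fintype.card F = 4) :
    ∃ (e' : T ≃* Matrix.ProjectiveSpecialLinearGroup (Fin 10) F) (v : Fin 10 → F), Pt (pg e' X) v ∨ Pt (pg e' Y) v :=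
  red_4_10_of (res9 hq) hP h e hq

end Cfsg.Agent.H848.Rl
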